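-- Team project CHO (S1082 / S1083): the generic "graph subgroup" lemma (helper11).
import Mathlib

/-!
# A simple group and a correspondence with a second group

`G` simple, `Γ ≤ G × H` projecting onto both factors, and every `h` with `(1, h) ∈ Γ` central in
`H`, `H` not commutative: then `G ≃* H ⧸ Z(H)`.  `gamma_iso_gen` is the version with generators
`x i`, `e i` and a multiplicative relation `P` containing the pairs `(x i, e i)`.
-/

set_option autoImplicit false

namespace Cfsg.Agent.Lib.Helper11.CHO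

open Subgroup

/-- `G` simple, `Γ ≤ G × H` onto both factors, `(1, h) ∈ Γ → h` central, `H` not commutative:
`G ≃* H ⧸ Z(H)`. -/
theorem gamma_iso {G H : Type*} [Group G] [Group H] [IsSimpleGroup G]
    (Γ : Subgroup (G × H)) (h1 : ∀ g : G, ∃ h : H, (g, h) ∈ Γ)
    (h2 : ∀ h : H, ∃ g : G, (g, h) ∈ Γ)
    (hker : ∀ h : H, ((1 : G), h) ∈ Γ → h ∈ center H)
    (hnc : ∃ a b : H, a * b ≠ b * a) :
    Nonempty (G ≃* H ⧸ center H) := by
  classical
  choose f hf using h1
  -- two partners of the same `g` differ by a central element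
  have huniq : ∀ (g : G) (h h' : H), (g, h) ∈ Γ → (g, h') ∈ Γ → h⁻¹ * h' ∈ center H := by
    intro g h h' hh hh'
    apply hker
    have := Γ.mul_mem (Γ.inv_mem hh) hh'
    simpa using this
  let φ : G →* H ⧸ center H :=
    { toFun := fun g => QuotientGroup.mk (f g)
      map_one' := by
        rw [QuotientGroup.eq_one_iff]
        exact hker _ (hf 1)
      map_mul' := by
        intro a b
        rw [← QuotientGroup.mk_mul, QuotientGroup.eq]
        exact huniq (a * b) _ _ (hf (a * b)) (by simpa using Γ.mul_mem (hf a) (hf b)) }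
  have hφ : ∀ (g : G) (h : H), (g, h) ∈ Γ → φ g = QuotientGroup.mk h := by
    intro g h hh
    show (QuotientGroup.mk (f g) : H ⧸ center H) = QuotientGroup.mk h
    rw [QuotientGroup.eq]
    exact huniq g _ _ (hf g) hh
  have hsurj : Function.Surjective φ := by
    intro y
    obtain ⟨h, rfl⟩ := QuotientGroup.mk_surjective y
    obtain ⟨g, hg⟩ := h2 h
    exact ⟨g, hφ g h hg⟩
  have hinj : Function.Injective φ := by
    rw [← MonoidHom.ker_eq_bot_iff]
    rcases (MonoidHom.normal_ker φ).eq_bot_or_eq_top with hb | ht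
    · exact hb
    · exfalso
      obtain ⟨a, b, hab⟩ := hnc
      apply hab
      obtain ⟨g, hg⟩ := h2 a
      have hg1 : φ g = 1 := by
        have : g ∈ φ.ker := by rw [ht]; exact mem_top g
        exact this
      rw [hφ g a hg, QuotientGroup.eq_one_iff] at hg1
      exact (mem_center_iff.mp hg1 b).symm
  exact ⟨MulEquiv.ofBijective φ ⟨hinj, hsurj⟩⟩

/-- The version with generators: `x i` generate `G`, `e i` generate `H`, and a relation `P`
closed under products and inverses contains all the pairs `(x i, e i)`; if `P 1 h` forces `h`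
central and `H` is not commutative, then `G ≃* H ⧸ Z(H)`. -/
theorem gamma_iso_gen {G H : Type*} [Group G] [Group H] [IsSimpleGroup G] {X : Type*}
    (x : X → G) (e : X → H) (hx : closure (Set.range x) = ⊤) (he : closure (Set.range e) = ⊤)
    (P : G → H → Prop) (hP1 : P 1 1)
    (hPmul : ∀ g g' h h', P g h → P g' h' → P (g * g') (h * h'))
    (hPinv : ∀ g h, P g h → P g⁻¹ h⁻¹) (hPgen : ∀ i, P (x i) (e i))
    (hker : ∀ h : H, P 1 h → h ∈ center H) (hnc : ∃ a b : H, a * b ≠ b * a) :
    Nonempty (G ≃* H ⧸ center H) := by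
  let Γ : Subgroup (G × H) := closure (Set.range fun i => (x i, e i))
  have hΓP : ∀ p ∈ Γ, P p.1 p.2 := by
    intro p hp
    refine closure_induction (p := fun p _ => P p.1 p.2) ?_ ?_ ?_ ?_ hp
    · rintro _ ⟨i, rfl⟩
      exact hPgen i
    · exact hP1
    · intro a b _ _ ha hb
      exact hPmul _ _ _ _ ha hb
    · intro a _ ha
      exact hPinv _ _ ha
  refine gamma_iso Γ ?_ ?_ (fun h hh => hker h (hΓP _ hh)) hnc
  · intro g
    have hg : g ∈ closure (Set.range x) := by rw [hx]; exact mem_top g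
    refine closure_induction (p := fun g _ => ∃ h : H, (g, h) ∈ Γ) ?_ ?_ ?_ ?_ hg
    · rintro _ ⟨i, rfl⟩
      exact ⟨e i, subset_closure ⟨i, rfl⟩⟩
    · exact ⟨1, Γ.one_mem⟩
    · rintro a b _ _ ⟨h, hh⟩ ⟨h', hh'⟩
      exact ⟨h * h', by simpa using Γ.mul_mem hh hh'⟩
    · rintro a _ ⟨h, hh⟩
      exact ⟨h⁻¹, by simpa using Γ.inv_mem hh⟩
  · intro h
    have hh : h ∈ closure (Set.range e) := by rw [he]; exact mem_top h
    refine closure_induction (p := fun h _ => ∃ g : G, (g, h) ∈ Γ) ?_ ?_ ?_ ?_ hh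
    · rintro _ ⟨i, rfl⟩
      exact ⟨x i, subset_closure ⟨i, rfl⟩⟩
    · exact ⟨1, Γ.one_mem⟩
    · rintro a b _ _ ⟨g, hg⟩ ⟨g', hg'⟩
      exact ⟨g * g', by simpa using Γ.mul_mem hg hg'⟩
    · rintro a _ ⟨g, hg⟩
      exact ⟨g⁻¹, by simpa using Γ.inv_mem hg⟩

end Cfsg.Agent.Lib.Helper11.CHO
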